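import Mathlib
import Cfsg.Prelude.Def_Classical

set_option autoImplicit false

/-!
# Project O9U (designer helper19): definitions for S2517 (10u), shared by O9U / O9A / O9L / O9H / O9M.

`q` odd, a power of the prime `p`: `Ω₉(q) = PΩ(quadFormOdd 4 F)` and `F^8 ⋊ Ω₈⁻(q)` have the same set of element orders,
namely the divisors of the numbers `N` with `InT9 q p N`.

* O9U (helper19): every element order of `Ω₉(q)` divides some `N` with `InT9 q p N`.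
* O9L (helper1): every `N` with `InT9 q p N` is an element order of `F^8 ⋊ Ω₈⁻(q)`.
* O9A (helper3): every element order of `F^8 ⋊ Ω₈⁻(q)` is an element order of `Ω₉(q)`.
-/

namespace Cfsg.Agent.Lib.Helper19.O9U

/-- `N` is one of the maximal element orders of `Ω₉(q)`, `q` odd, a power of the prime `p`:
`(q^4+1)/2, (q^4-1)/2, (q^3-1)(q+1)/2, (q^3+1)(q-1)/2, p(q^3-1)/2, p(q^3+1)/2, p(q^2+1)(q-1)/2, p(q^2+1)(q+1)/2, p(q^2-1)`,
and `9(q^2+1)/2, 9(q^2-1)/2` if `p = 3`, `25(q-1)/2, 25(q+1)/2` if `p = 5`, `49` if `p = 7`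
(the halvings are written as `2 * N = ...`; natural-number subtraction, `q ≥ 3`). -/
def InT9 (q p N : ℕ) : Prop :=
  2 * N = q ^ 4 + 1 ∨ 2 * N = q ^ 4 - 1 ∨ 2 * N = (q ^ 3 - 1) * (q + 1) ∨ 2 * N = (q ^ 3 + 1) * (q - 1) ∨
  2 * N = p * (q ^ 3 - 1) ∨ 2 * N = p * (q ^ 3 + 1) ∨
  2 * N = p * ((q ^ 2 + 1) * (q - 1)) ∨ 2 * N = p * ((q ^ 2 + 1) * (q + 1)) ∨
  N = p * (q ^ 2 - 1) ∨
  (p = 3 ∧ (2 * N = 9 * (q ^ 2 + 1) ∨ 2 * N = 9 * (q ^ 2 - 1))) ∨
  (p = 5 ∧ (2 * N = 25 * (q - 1) ∨ 2 * N = 25 * (q + 1))) ∨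
  (p = 7 ∧ N = 49)

/-- `q ^ e - 1` (`ε = true`: a pair `f ≠ f*` of irreducible factors of degree `e`) or `q ^ e + 1` (`ε = false`: a
self-reciprocal irreducible factor of degree `2 e`) -/
def tyN (q e : ℕ) (ε : Bool) : ℕ := if ε then q ^ e - 1 else q ^ e + 1

theorem tyN_true (q e : ℕ) : tyN q e true = q ^ e - 1 := rfl

theorem tyN_false (q e : ℕ) : tyN q e false = q ^ e + 1 := rfl

/-- the index type of the natural module of `Ω₉(q)` -/
abbrev I9 : Type := Unit ⊕ (Fin 4 ⊕ Fin 4)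

/-- the index type of the natural module of `Ω₈⁻(q)` -/
abbrev I8 : Type := (Fin 3 ⊕ Fin 3) ⊕ Fin 2

end Cfsg.Agent.Lib.Helper19.O9U
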